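import Cfsg.Agent.Lib.Blocks.GroupAlg

/-!
# Coefficients of a two-sided translate in a group algebra
-/

set_option autoImplicit false

namespace CfsgLib.MinimalDim

open MonoidAlgebra CfsgLib.Blocks

variable {G : Type*} [Group G] [Fintype G]

theorem coeff_translate {F : Type*} [CommRing F] (u w x : G) (a : MonoidAlgebra F G) :
    (single u 1 * a * single w 1).coeff x = a.coeff (u⁻¹ * x * w⁻¹) := by
  classical
  rw [coeff_mul_eq_sum, Finset.sum_eq_single (x * w⁻¹)]
  · rw [coeff_mul_eq_sum, Finset.sum_eq_single u]
    · simp [MonoidAlgebra.coeff_single, mul_assoc]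
    · intro b _ hb; simp [MonoidAlgebra.coeff_single, Ne.symm hb]
    · simp
  · intro b _ hb
    rw [MonoidAlgebra.coeff_single, Finsupp.single_eq_of_ne, mul_zero]
    intro h
    exact hb (by rw [← h]; group)
  · simp

end CfsgLib.MinimalDim
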