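import Cfsg.Agent.Lib.Blocks.Cyclic1.Shift
import Cfsg.Agent.Lib.Blocks.Cyclic1.Translate
import Cfsg.Agent.Lib.Blocks.Brauer.LocalAlgebra
import Mathlib.RingTheory.SimpleModule.Basic
import Mathlib.GroupTheory.SpecificGroups.Cyclic

/-!
# A local corner of a block with cyclic defect group has cyclic radical

If the radical of the corner needed two generators, a pencil of modules with two composition
factors would be direct summands of one module, and the dimension of that module is bounded.
-/

set_option autoImplicit false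

namespace CfsgLib.Cyclic1

open MonoidAlgebra CfsgLib.IBr

variable {G : Type*} [Group G] [Fintype G] {k : Type*} [Field k] [Infinite k]
  {p : ℕ} [Fact p.Prime] [CharP k p]

theorem exists_generated {D : Subgroup G} [IsCyclic D] (hDp : IsPGroup p D)
    {a : MonoidAlgebra k G} (ha : ∀ u ∈ D, ∀ x, a.coeff (u * x * u⁻¹) = a.coeff x)
    {e : MonoidAlgebra k G} (he : ∀ y, ∑ᶠ q : G ⧸ D, a.coeff (q.out⁻¹ * y * q.out) = e.coeff y)
    (hec : ∀ b, e * b = b * e) {f : MonoidAlgebra k G} (hf : f * f = f) (hef : e * f = f)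
    (π : MonoidAlgebra k G →ₗ[k] k) (hπf : π f = 1)
    (hπmul : ∀ a ∈ LinearMap.range (compr k f), ∀ b ∈ LinearMap.range (compr k f),
      π (a * b) = π a * π b) :
    ∃ t ∈ LinearMap.range (compr k f) ⊓ LinearMap.ker π,
      LinearMap.range (compr k f) ⊓ LinearMap.ker π ≤ Submodule.span k {t} ⊔
        (LinearMap.range (compr k f) ⊓ LinearMap.ker π) *
          (LinearMap.range (compr k f) ⊓ LinearMap.ker π) := by
  classical
  set U := LinearMap.range (compr k f) with hU
  set J := U ⊓ LinearMap.ker π with hJ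
  by_contra hone
  push Not at hone
  have hfU : f ∈ U := (mem_range_compr hf).2 (by rw [hf, hf])
  have hdec : ∀ a ∈ U, a - π a • f ∈ J := fun a ha =>
    ⟨sub_mem ha (U.smul_mem _ hfU), by simp [LinearMap.mem_ker, hπf]⟩
  have hJU : J ≤ U := inf_le_left
  have hJ0 : ∀ j ∈ J, π j = 0 := fun j hj => LinearMap.mem_ker.1 hj.2
  have hJmul : ∀ a ∈ J, ∀ b ∈ J, a * b ∈ J := fun a ha b hb =>
    ⟨mul_mem_corner hf ha.1 hb.1, by
      rw [SetLike.mem_coe, LinearMap.mem_ker, hπmul a ha.1 b hb.1, hJ0 a ha, zero_mul]⟩
  have hJJ : J * J ≤ J := Submodule.mul_le.2 hJmul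
  obtain ⟨x, hx, hx2⟩ : ∃ x ∈ J, x ∉ J * J := by
    by_contra h
    push Not at h
    exact hone 0 J.zero_mem fun j hj => Submodule.mem_sup_right (h j hj)
  obtain ⟨y, hy, hy2⟩ := SetLike.not_le_iff_exists.1 (hone x hx)
  -- the pencil
  let K : k → Submodule k (MonoidAlgebra k G) := fun t => Submodule.span k {y - t • x} ⊔ J * J
  have hKJ : ∀ t, K t ≤ J := fun t =>
    sup_le (Submodule.span_le.2 (Set.singleton_subset_iff.2 (sub_mem hy (J.smul_mem _ hx)))) hJJ
  have hUK : ∀ t, ∀ u ∈ U, ∀ κ ∈ K t, u * κ ∈ K t := fun t u hu κ hκ => by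
    have e1 : u * κ = (u - π u • f) * κ + π u • κ := by
      rw [sub_mul, smul_mul_assoc, left_mul_of_mem hf (hJU (hKJ t hκ)), sub_add_cancel]
    rw [e1]
    exact add_mem (Submodule.mem_sup_right (Submodule.mul_mem_mul (hdec u hu) (hKJ t hκ)))
      ((K t).smul_mem _ hκ)
  let L : k → Submodule (MonoidAlgebra k G) (MonoidAlgebra k G) := fun t =>
    { carrier := {z | ∀ b, f * b * z * f ∈ K t}
      add_mem' := fun {u v} hu hv b => by
        rw [mul_add, add_mul]; exact add_mem (hu b) (hv b)
      zero_mem' := fun b => by simp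
      smul_mem' := fun c z hz b => by
        rw [smul_eq_mul, show f * b * (c * z) * f = f * (b * c) * z * f by simp only [mul_assoc]]
        exact hz _ }
  have hLf : ∀ t w, w * f - w ∈ L t := fun t w b => by
    rw [mul_sub, sub_mul, show f * b * (w * f) * f = f * b * w * (f * f) by simp only [mul_assoc],
      hf, sub_self]
    exact Submodule.zero_mem _
  have hLK : ∀ t, ∀ κ ∈ K t, κ ∈ L t := fun t κ hκ b => by
    have hκU := hJU (hKJ t hκ)
    rw [show f * b * κ * f = (f * b * f) * κ by
      rw [mul_assoc (f * b) κ f, right_mul_of_mem hf hκU, mul_assoc (f * b) f κ,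
        left_mul_of_mem hf hκU]]
    exact hUK t _ ⟨b, compr_apply f b⟩ κ hκ
  have hxL : ∀ t, x ∉ L t := fun t h => by
    have h1 := h 1
    rw [mul_one, left_mul_of_mem hf hx.1, right_mul_of_mem hf hx.1] at h1
    obtain ⟨u, hu, v, hv, huv⟩ := Submodule.mem_sup.1 h1
    obtain ⟨β, rfl⟩ := Submodule.mem_span_singleton.1 hu
    rcases eq_or_ne β 0 with rfl | hβ
    · exact hx2 (by rw [← huv, zero_smul, zero_add]; exact hv)
    · refine hy2 ?_
      have e1 : y = (t + β⁻¹) • x - β⁻¹ • v := by
        have h2 : β • (y - t • x) = x - v := eq_sub_of_add_eq huv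
        have h3 := congrArg (fun z => β⁻¹ • z) h2
        simp only [inv_smul_smul₀ hβ, smul_sub] at h3
        rw [add_smul, add_sub_assoc, ← h3, add_sub_cancel]
      rw [e1]
      exact sub_mem (Submodule.mem_sup_left (Submodule.smul_mem _ _
        (Submodule.mem_span_singleton_self x))) (Submodule.mem_sup_right (Submodule.smul_mem _ _ hv))
  -- the universal summand
  obtain ⟨n, hn⟩ := hDp.exists_card_eq
  obtain ⟨g0, hg0⟩ := IsCyclic.exists_generator (α := D)
  have := charP_of_injective_algebraMap (algebraMap k (MonoidAlgebra k G)).injective p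
  have hNA : (single (g0 : G) (1 : k) - 1 : MonoidAlgebra k G) ^ p ^ n = 0 := by
    rw [sub_pow_char_pow_of_commute p n (Commute.one_right _), one_pow, single_pow, one_pow]
    have h1 : (g0 : G) ^ p ^ n = 1 := by
      rw [← hn, ← Subgroup.coe_pow, pow_card_eq_one', Subgroup.coe_one]
    rw [h1, ← one_def, sub_self]
  let act : ∀ t, MonoidAlgebra k G →ₐ[k] Module.End k (MonoidAlgebra k G ⧸ L t) := fun t =>
    Algebra.lsmul k k (MonoidAlgebra k G ⧸ L t)
  have : ∀ t, FiniteDimensional k (MonoidAlgebra k G ⧸ L t) := fun t =>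
    Module.Finite.of_surjective ((L t).mkQ.restrictScalars k) (L t).mkQ_surjective
  have hfr : ∀ t, Module.finrank k (MonoidAlgebra k G ⧸ L t) ≤ Module.finrank k (MonoidAlgebra k G) :=
    fun t => LinearMap.finrank_le_finrank_of_surjective (f := (L t).mkQ.restrictScalars k) (L t).mkQ_surjective
  set r := Module.finrank k (MonoidAlgebra k G) with hr
  have hsum : ∀ t, ∃ (j : (MonoidAlgebra k G ⧸ L t) →ₗ[k] (Fin r → Slot k (p ^ n)))
      (q : (Fin r → Slot k (p ^ n)) →ₗ[k] (MonoidAlgebra k G ⧸ L t)),
      (∀ w, j (act t (single (g0 : G) 1 - 1) w) = bigShift k (p ^ n) r (j w)) ∧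
        (∀ z, q (bigShift k (p ^ n) r z) = act t (single (g0 : G) 1 - 1) (q z)) ∧
          ∀ w, q (j w) = w := fun t =>
    exists_summand (p ^ n) r _ _ (by rw [← map_pow, hNA, map_zero]) (hfr t)
  choose j qq hj hqq hjq using hsum
  have hψ : ∀ t s, ∀ d ∈ D, ∀ w, qq s (j t (single d (1 : k) • w)) = single d (1 : k) • qq s (j t w) := by
    intro t s d hd
    have h1 : ∀ w, qq s (j t (single (g0 : G) (1 : k) • w)) = single (g0 : G) (1 : k) • qq s (j t w) := by
      intro w
      have h := congrArg (qq s) (hj t w)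
      rw [hqq] at h
      simp only [act, map_sub, map_one, LinearMap.sub_apply, Module.End.one_apply, Algebra.lsmul_coe, sub_left_inj] at h
      exact h
    obtain ⟨i, hi⟩ := (mem_powers_iff_mem_zpowers).2 (hg0 ⟨d, hd⟩)
    have hi' : (g0 : G) ^ i = d := congrArg Subtype.val hi
    rw [← hi', show single ((g0 : G) ^ i) (1 : k) = single (g0 : G) (1 : k) ^ i by
      rw [single_pow, one_pow]]
    clear hi hi'
    induction i with
    | zero => simp
    | succ i ih => intro w; rw [pow_succ, mul_smul, mul_smul, ih, h1]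
  have := Fintype.ofFinite (G ⧸ D)
  have hcomm : ∀ d ∈ D, single d (1 : k) * a = a * single d 1 := fun d hd => by
    refine MonoidAlgebra.ext (Finsupp.ext fun z => ?_)
    rw [show single d (1 : k) * a = single d 1 * a * single 1 1 by rw [← one_def, mul_one],
      show a * single d (1 : k) = single 1 1 * a * single d 1 by rw [← one_def, one_mul],
      MinimalDim.coeff_translate, MinimalDim.coeff_translate, inv_one, mul_one, one_mul]
    rw [← ha d hd (d⁻¹ * z)]
    group
  let inj : ∀ t, (MonoidAlgebra k G ⧸ L t) → (G → Fin r → Slot k (p ^ n)) := fun t v h =>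
    j t ((a * single h⁻¹ (1 : k)) • v)
  let P : ∀ s, (G → Fin r → Slot k (p ^ n)) →ₗ[k] (MonoidAlgebra k G ⧸ L s) := fun s =>
    ∑ q : G ⧸ D, (act s (single q.out (1 : k))) ∘ₗ qq s ∘ₗ LinearMap.proj q.out
  have hP : ∀ s t v, P s (inj t v) =
      ∑ q : G ⧸ D, single q.out (1 : k) • qq s (j t ((a * single q.out⁻¹ (1 : k)) • v)) := by
    intro s t v
    simp [P, inj, act]
  -- the composites are module maps
  have hlin : ∀ s t (b : MonoidAlgebra k G) v, P s (inj t (b • v)) = b • P s (inj t v) := by
    intro s t b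
    induction b using MonoidAlgebra.induction_on with
    | of g =>
      intro v
      rw [hP, hP, Finset.smul_sum]
      refine Fintype.sum_equiv (MulAction.toPerm g⁻¹) _ _ fun q => ?_
      rw [MulAction.toPerm_apply]
      obtain ⟨d, hd, hqd⟩ : ∃ d ∈ D, q.out = g * (g⁻¹ • q).out * d := by
        refine ⟨(g * (g⁻¹ • q).out)⁻¹ * q.out, QuotientGroup.eq.1 ?_, (mul_inv_cancel_left _ _).symm⟩
        rw [QuotientGroup.out_eq']
        conv_rhs => rw [← smul_inv_smul g q, ← QuotientGroup.out_eq' (g⁻¹ • q)]
        rfl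
      show single q.out (1 : k) • qq s (j t ((a * single q.out⁻¹ (1 : k)) • MonoidAlgebra.of k G g • v)) =
        MonoidAlgebra.of k G g • single (g⁻¹ • q).out (1 : k) •
          qq s (j t ((a * single (g⁻¹ • q).out⁻¹ (1 : k)) • v))
      generalize (g⁻¹ • q).out = w at hqd ⊢
      rw [MonoidAlgebra.of_apply, ← mul_smul, mul_assoc a, single_mul_single, mul_one, hqd,
        show (g * w * d)⁻¹ * g = d⁻¹ * w⁻¹ by group,
        show single (d⁻¹ * w⁻¹) (1 : k) = single d⁻¹ 1 * single w⁻¹ 1 by rw [single_mul_single, mul_one],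
        ← mul_assoc, ← hcomm _ (inv_mem hd), mul_assoc (single d⁻¹ (1 : k)) a, mul_smul (single d⁻¹ (1 : k)), hψ t s _ (inv_mem hd), ← mul_smul,
        ← mul_smul, single_mul_single, single_mul_single, mul_one,
        mul_assoc (g * w) d d⁻¹, mul_inv_cancel, mul_one]
    | add b c hb hc =>
      intro v
      have h : inj t ((b + c) • v) = inj t (b • v) + inj t (c • v) := funext fun h => by
        simp [inj, add_smul, smul_add]
      rw [h, map_add, hb, hc, add_smul]
    | smul c b hb =>
      intro v
      have h : inj t ((c • b) • v) = c • inj t (b • v) := funext fun h => by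
        simp [inj, smul_assoc, smul_comm (a * single h⁻¹ (1 : k)) c]
      rw [h, map_smul, hb, smul_assoc]
  have hdiag : ∀ t v, P t (inj t v) = v := by
    intro t v
    rw [hP]
    simp only [hjq, ← mul_smul, ← Finset.sum_smul]
    rw [show (∑ q : G ⧸ D, single q.out (1 : k) * (a * single q.out⁻¹ 1)) = e from
      MonoidAlgebra.ext (Finsupp.ext fun z => by
        rw [← he, finsum_eq_sum_of_fintype, coeff_sum, Finsupp.coe_finsetSum, Finset.sum_apply]
        refine Finset.sum_congr rfl fun q _ => ?_
        rw [← mul_assoc, MinimalDim.coeff_translate, inv_inv])]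
    obtain ⟨z, rfl⟩ := (L t).mkQ_surjective v
    rw [← map_smul, Submodule.mkQ_apply, Submodule.mkQ_apply, Submodule.Quotient.eq]
    intro b
    rw [smul_eq_mul, mul_sub, sub_mul,
      show f * b * (e * z) * f = (f * (b * e)) * z * f by simp only [mul_assoc], ← hec b, ← mul_assoc f,
      ← hec f, hef, sub_self]
    exact Submodule.zero_mem _
  have hoff : ∀ s t, s ≠ t → P s (inj t (Submodule.Quotient.mk x)) = 0 := by
    intro s t hst
    obtain ⟨w, hw⟩ := (L s).mkQ_surjective (P s (inj t (Submodule.Quotient.mk 1)))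
    rw [Submodule.mkQ_apply] at hw
    have hone' : (Submodule.Quotient.mk (f * w * f) : MonoidAlgebra k G ⧸ L s) =
        P s (inj t (Submodule.Quotient.mk 1)) := by
      have h1 : f • (Submodule.Quotient.mk 1 : MonoidAlgebra k G ⧸ L t) = Submodule.Quotient.mk 1 := by
        rw [← Submodule.Quotient.mk_smul, Submodule.Quotient.eq, smul_eq_mul, mul_one]
        have h := hLf t 1
        rwa [one_mul] at h
      rw [← h1, hlin, ← hw, ← Submodule.Quotient.mk_smul, smul_eq_mul, Submodule.Quotient.eq]
      exact hLf s _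
    have hwU : f * w * f ∈ U := ⟨w, compr_apply f w⟩
    have hact : ∀ b, P s (inj t (Submodule.Quotient.mk b)) = Submodule.Quotient.mk (b * (f * w * f)) := by
      intro b
      rw [show (Submodule.Quotient.mk b : MonoidAlgebra k G ⧸ L t) = b • Submodule.Quotient.mk 1 by
        rw [← Submodule.Quotient.mk_smul, smul_eq_mul, mul_one], hlin, ← hone',
        ← Submodule.Quotient.mk_smul, smul_eq_mul]
    -- the coefficient of the idempotent vanishes
    have hα : π (f * w * f) = 0 := by
      by_contra hα
      have h0 : (Submodule.Quotient.mk (y - t • x) : MonoidAlgebra k G ⧸ L t) = 0 :=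
        (Submodule.Quotient.mk_eq_zero _).2 (hLK t _ (Submodule.mem_sup_left (Submodule.mem_span_singleton_self _)))
      have h1 := hact (y - t • x)
      rw [h0] at h1
      have hz : inj t 0 = 0 := funext fun h => by simp [inj]
      rw [hz, map_zero, eq_comm, Submodule.Quotient.mk_eq_zero] at h1
      have hyx : y - t • x ∈ J := sub_mem hy (J.smul_mem _ hx)
      have h2 := h1 1
      rw [mul_one, left_mul_of_mem hf (mul_mem_corner hf hyx.1 hwU),
        right_mul_of_mem hf (mul_mem_corner hf hyx.1 hwU)] at h2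
      have h3 : π (f * w * f) • (y - t • x) ∈ K s := by
        have e1 : π (f * w * f) • (y - t • x) =
            (y - t • x) * (f * w * f) - (y - t • x) * (f * w * f - π (f * w * f) • f) := by
          rw [mul_sub (y - t • x), mul_smul_comm, right_mul_of_mem hf hyx.1, sub_sub_cancel]
        rw [e1]
        exact sub_mem h2 (Submodule.mem_sup_right (Submodule.mul_mem_mul hyx (hdec _ hwU)))
      have h4 : (s - t) • x ∈ K s := by
        have h5 := (K s).smul_mem (π (f * w * f))⁻¹ h3
        rw [inv_smul_smul₀ hα] at h5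
        have h6 := sub_mem h5 (Submodule.mem_sup_left (Submodule.mem_span_singleton_self (y - s • x)) :
          y - s • x ∈ K s)
        rwa [sub_sub_sub_cancel_left, ← sub_smul] at h6
      refine hxL s (hLK s _ ?_)
      have h7 := (K s).smul_mem (s - t)⁻¹ h4
      rwa [inv_smul_smul₀ (sub_ne_zero.2 hst)] at h7
    rw [hact, Submodule.Quotient.mk_eq_zero]
    exact hLK s _ (Submodule.mem_sup_right (Submodule.mul_mem_mul hx ⟨hwU, hα⟩))
  -- too many independent vectors
  let X := G → Fin r → Slot k (p ^ n)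
  obtain ⟨T, hT⟩ := Infinite.exists_subset_card_eq k (Module.finrank k X + 1)
  have hli : LinearIndependent k (fun t : T => (inj t.1 (Submodule.Quotient.mk x) : X)) := by
    rw [Fintype.linearIndependent_iff]
    intro c hc s
    have h := congrArg (P s.1) hc
    rw [map_sum, map_zero, Finset.sum_eq_single s] at h
    · rw [map_smul, hdiag, smul_eq_zero] at h
      exact h.resolve_right fun h' => hxL s.1 ((Submodule.Quotient.mk_eq_zero _).1 h')
    · intro t _ hts
      rw [map_smul, hoff s.1 t.1 (fun e => hts (Subtype.ext e.symm)), smul_zero]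
    · simp
  have h := hli.fintype_card_le_finrank
  rw [Fintype.card_coe, hT] at h
  change Module.finrank k X + 1 ≤ Module.finrank k X at h
  omega

end CfsgLib.Cyclic1
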