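import Cfsg.Agent.Lib.Blocks.Defect
import Cfsg.Agent.Lib.Blocks.Induced
import Cfsg.Agent.Lib.Blocks.InvolutionBound

/-!
# A block idempotent is a relative trace from its defect group
-/

set_option autoImplicit false

namespace CfsgLib.Cyclic1

open Cfsg CfsgLib.Blocks MonoidAlgebra

variable {G : Type*} [Group G] [Fintype G]

/-- The cosets moving `y` into the orbit of `x` under `D`. -/
theorem card_cosets_eq_index (D : Subgroup G) {x y h : G} (hxy : h * x * h⁻¹ = y) :
    Nat.card {q : G ⧸ D // ∃ d ∈ D, d * x * d⁻¹ = q.out⁻¹ * y * q.out} =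
      (D.subgroupOf (Subgroup.centralizer ({x} : Set G))).index := by
  set C := Subgroup.centralizer ({x} : Set G) with hC
  have hmk : ∀ g : G, ((∃ d ∈ D, d * x * d⁻¹ = g⁻¹ * y * g) ↔
      ∃ c ∈ C, (g : G ⧸ D) = ((h * c : G) : G ⧸ D)) := fun g => by
    constructor
    · rintro ⟨d, hd, hdx⟩
      refine ⟨h⁻¹ * g * d, Subgroup.mem_centralizer_singleton_iff.2 ?_, ?_⟩
      · calc h⁻¹ * g * d * x = h⁻¹ * g * (d * x * d⁻¹) * d := by group
          _ = h⁻¹ * y * g * d := by rw [hdx]; group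
          _ = _ := by rw [← hxy]; group
      · rw [QuotientGroup.eq]
        simpa [mul_assoc] using hd
    · rintro ⟨c, hc, hgc⟩
      rw [QuotientGroup.eq] at hgc
      refine ⟨g⁻¹ * (h * c), hgc, ?_⟩
      have hcx := Subgroup.mem_centralizer_singleton_iff.1 hc
      rw [← hxy]
      calc g⁻¹ * (h * c) * x * (g⁻¹ * (h * c))⁻¹ = g⁻¹ * h * (c * x) * c⁻¹ * h⁻¹ * g := by group
        _ = _ := by rw [hcx]; group
  rw [Subgroup.index_eq_card]
  let f : C ⧸ D.subgroupOf C → G ⧸ D := fun c => ((h * (c.out : C) : G) : G ⧸ D)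
  have hf : ∀ c : C, f (c : C ⧸ D.subgroupOf C) = ((h * c : G) : G ⧸ D) := fun c => by
    obtain ⟨w, hw⟩ := QuotientGroup.mk_out_eq_mul (D.subgroupOf C) c
    show ((h * _ : G) : G ⧸ D) = _
    rw [hw, QuotientGroup.eq]
    simpa [mul_assoc] using inv_mem (Subgroup.mem_subgroupOf.1 w.2)
  refine (Nat.card_congr (Equiv.ofBijective (fun c => (⟨f c, (hmk _).2
    ⟨(c.out : C), (c.out : C).2, by rw [QuotientGroup.out_eq']⟩⟩ :
      {q : G ⧸ D // ∃ d ∈ D, d * x * d⁻¹ = q.out⁻¹ * y * q.out})) ⟨?_, ?_⟩)).symm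
  · intro a b hab
    have h1 : f a = f b := congrArg Subtype.val hab
    induction a using QuotientGroup.induction_on with
    | _ a =>
      induction b using QuotientGroup.induction_on with
      | _ b =>
        rw [hf, hf, QuotientGroup.eq] at h1
        rw [QuotientGroup.eq, Subgroup.mem_subgroupOf]
        simpa [mul_assoc] using h1
  · rintro ⟨q, hq⟩
    obtain ⟨c, hc, hqc⟩ := (hmk q.out).1 hq
    rw [QuotientGroup.out_eq'] at hqc
    exact ⟨((⟨c, hc⟩ : C) : C ⧸ D.subgroupOf C), Subtype.ext ((hf ⟨c, hc⟩).trans hqc.symm)⟩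

variable {M : Ideal AlgInt} [M.IsPrime] {p : ℕ} [Fact p.Prime] (hM : IsPModular p M)
include hM

theorem exists_relTrace {B : Set (IrrCharacter G)} (hB : IsPBlock M B) {D : Subgroup G}
    (hD : IsDefectGroup p M B D) :
    ∃ a : MonoidAlgebra (Res M) G, (∀ u ∈ D, ∀ x, a.coeff (u * x * u⁻¹) = a.coeff x) ∧
      ∀ y, ∑ᶠ q : G ⧸ D, a.coeff (q.out⁻¹ * y * q.out) = (blockIdemBar M B).coeff y := by
  classical
  have := charP_residueField hM
  set e := blockIdemBar M B with he
  have hecl : ∀ g h : G, e.coeff (h * g * h⁻¹) = e.coeff g := fun g h =>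
    isCentralElt_blockIdemBar hB g h
  let m : G → ℕ := fun x => (D.subgroupOf (Subgroup.centralizer ({x} : Set G))).index
  let rep : ConjClasses G → G := fun C =>
    if h : ∃ x, ConjClasses.mk x = C ∧ ¬ p ∣ m x then h.choose else C.out
  have hrep : ∀ C, ConjClasses.mk (rep C) = C := fun C => by
    simp only [rep]
    split_ifs with h
    · exact h.choose_spec.1
    · exact Quotient.out_eq C
  have hgood : ∀ g, e.coeff g ≠ 0 → ¬ p ∣ m (rep (ConjClasses.mk g)) := by
    intro g hg
    have hex : ∃ x, ConjClasses.mk x = ConjClasses.mk g ∧ ¬ p ∣ m x := by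
      obtain ⟨S⟩ := (inferInstance : Nonempty (Sylow p (Subgroup.centralizer ({g} : Set G))))
      have hle : (S : Subgroup (Subgroup.centralizer ({g} : Set G))).map
          (Subgroup.centralizer ({g} : Set G)).subtype ≤ Subgroup.centralizer ({g} : Set G) :=
        Subgroup.map_subtype_le _
      obtain ⟨k, hk⟩ := IsDefectGroup.defLE_of_coeff_ne_zero hM hB hD hg _ (S.isPGroup'.map _) hle
      refine ⟨k * g * k⁻¹, ConjClasses.mk_eq_mk_iff_isConj.2
        (isConj_iff.2 ⟨k⁻¹, by group⟩), ?_⟩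
      intro hdvd
      set C' := Subgroup.centralizer ({k * g * k⁻¹} : Set G) with hC'
      have hmem : ∀ s : Subgroup.centralizer ({g} : Set G), k * (s : G) * k⁻¹ ∈ C' := fun s =>
        Subgroup.mem_centralizer_singleton_iff.2 (by
          have hs := Subgroup.mem_centralizer_singleton_iff.1 s.2
          calc k * (s : G) * k⁻¹ * (k * g * k⁻¹) = k * ((s : G) * g) * k⁻¹ := by group
            _ = _ := by rw [hs]; group)
      let φ : ↥(S : Subgroup (Subgroup.centralizer ({g} : Set G))) → D.subgroupOf C' := fun s =>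
        ⟨⟨k * ((s : Subgroup.centralizer ({g} : Set G)) : G) * k⁻¹, hmem _⟩,
          Subgroup.mem_subgroupOf.2 (hk _ (Subgroup.mem_map_of_mem _ s.2))⟩
      have hφ : Function.Injective φ := fun s t h => by
        have h' : k * ((s : Subgroup.centralizer ({g} : Set G)) : G) * k⁻¹ =
            k * ((t : Subgroup.centralizer ({g} : Set G)) : G) * k⁻¹ :=
          congrArg (fun z : D.subgroupOf C' => ((z : C') : G)) h
        exact Subtype.ext (Subtype.ext (mul_left_cancel (mul_right_cancel h')))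
      have hCC : Nat.card C' = Nat.card (Subgroup.centralizer ({g} : Set G)) :=
        InvolutionBound.cent_conj k g
      have hP : IsPGroup p (D.subgroupOf C') :=
        (IsDefectGroup.isPGroup hD).comap_of_injective _ (Subgroup.subtype_injective _)
      obtain ⟨i, hi⟩ := hP.exists_card_eq
      have hSle : Nat.card (S : Subgroup (Subgroup.centralizer ({g} : Set G))) ≤ p ^ i :=
        hi ▸ Nat.card_le_card_of_injective φ hφ
      rw [S.card_eq_multiplicity] at hSle
      have hfac := (Nat.pow_le_pow_iff_right (Fact.out : p.Prime).one_lt).1 hSle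
      have hmul := (D.subgroupOf C').card_mul_index
      rw [hi, hCC] at hmul
      have hdvd' : p ^ (i + 1) ∣ Nat.card (Subgroup.centralizer ({g} : Set G)) := by
        rw [← hmul, pow_succ]; exact Nat.mul_dvd_mul_left _ hdvd
      have h2 := ((Fact.out : p.Prime).pow_dvd_iff_le_factorization Nat.card_pos.ne').1 hdvd'
      omega
    show ¬ p ∣ m (rep _)
    simp only [rep, dif_pos hex]
    exact hex.choose_spec.2
  let A : G → Res M := fun y =>
    if ∃ d ∈ D, d * rep (ConjClasses.mk y) * d⁻¹ = y then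
      e.coeff y / (m (rep (ConjClasses.mk y)) : Res M) else 0
  refine ⟨ofFun A, fun u hu x => ?_, fun y => ?_⟩
  · have hcl : ConjClasses.mk (u * x * u⁻¹) = ConjClasses.mk x :=
      ConjClasses.mk_eq_mk_iff_isConj.2 (isConj_iff.2 ⟨u⁻¹, by group⟩)
    simp only [coeff_ofFun, A, hcl, hecl]
    refine if_congr ⟨?_, ?_⟩ rfl rfl
    · rintro ⟨d, hd, h⟩
      refine ⟨u⁻¹ * d, mul_mem (inv_mem hu) hd, ?_⟩
      calc u⁻¹ * d * rep (ConjClasses.mk x) * (u⁻¹ * d)⁻¹
          = u⁻¹ * (d * rep (ConjClasses.mk x) * d⁻¹) * u := by group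
        _ = x := by rw [h]; group
    · rintro ⟨d, hd, h⟩
      refine ⟨u * d, mul_mem hu hd, ?_⟩
      calc u * d * rep (ConjClasses.mk x) * (u * d)⁻¹
          = u * (d * rep (ConjClasses.mk x) * d⁻¹) * u⁻¹ := by group
        _ = _ := by rw [h]
  · have := Fintype.ofFinite (G ⧸ D)
    rw [finsum_eq_sum_of_fintype]
    have hcl : ∀ q : G ⧸ D, ConjClasses.mk (q.out⁻¹ * y * q.out) = ConjClasses.mk y := fun q =>
      ConjClasses.mk_eq_mk_iff_isConj.2 (isConj_iff.2 ⟨q.out, by group⟩)
    have hcoe : ∀ q : G ⧸ D, e.coeff (q.out⁻¹ * y * q.out) = e.coeff y := fun q => by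
      simpa using hecl y q.out⁻¹
    simp only [coeff_ofFun, A, hcl, hcoe]
    by_cases h0 : e.coeff y = 0
    · simp [h0]
    obtain ⟨h, hh⟩ := isConj_iff.1 (ConjClasses.mk_eq_mk_iff_isConj.1 (hrep (ConjClasses.mk y)))
    rw [← Finset.sum_filter, Finset.sum_const, nsmul_eq_mul, ← Fintype.card_subtype,
      ← Nat.card_eq_fintype_card, card_cosets_eq_index D hh]
    refine mul_div_cancel₀ _ ?_
    rw [Ne, CharP.cast_eq_zero_iff (Res M) p]
    exact hgood y h0

end CfsgLib.Cyclic1
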