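import Mathlib.LinearAlgebra.Dual.Lemmas
import Mathlib.LinearAlgebra.FiniteDimensional.Lemmas

/-!
# Nilpotent operators of bounded class and dimension are summands of one operator

For fixed `L` and `r`, every nilpotent operator `N` with `N ^ L = 0` on a space of dimension at
most `r` is a direct summand of the sum of `r` copies of all shifts of length at most `L`.
-/

set_option autoImplicit false

namespace CfsgLib.Cyclic1

variable (k : Type*) [Field k]

/-- Sequences of all lengths up to `L`. -/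
abbrev Slot (L : ℕ) : Type _ := (j : Fin (L + 1)) → Fin j.1 → k

/-- The shift. -/
def shift (m : ℕ) : (Fin m → k) →ₗ[k] (Fin m → k) where
  toFun c i := if h : i.1 + 1 < m then c ⟨i.1 + 1, h⟩ else 0
  map_add' c c' := funext fun i => by by_cases h : i.1 + 1 < m <;> simp [h]
  map_smul' r c := funext fun i => by by_cases h : i.1 + 1 < m <;> simp [h]

/-- The shift in every length. -/
def slotShift (L : ℕ) : Slot k L →ₗ[k] Slot k L :=
  LinearMap.pi fun j => shift k j.1 ∘ₗ LinearMap.proj j

/-- The shift in every copy. -/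
def bigShift (L r : ℕ) : (Fin r → Slot k L) →ₗ[k] (Fin r → Slot k L) :=
  LinearMap.pi fun i => slotShift k L ∘ₗ LinearMap.proj i

variable {k}

/-- A nilpotent operator of class exactly `n + 1` splits off a shift of that length. -/
theorem exists_split {V : Type*} [AddCommGroup V] [Module k V] (N : Module.End k V) {n : ℕ}
    (hN : N ^ (n + 1) = 0) {v : V} (hv : (N ^ n) v ≠ 0) :
    ∃ (q : V →ₗ[k] (Fin (n + 1) → k)) (μ : (Fin (n + 1) → k) →ₗ[k] V),
      (∀ w, q (N w) = shift k (n + 1) (q w)) ∧ (∀ c, μ (shift k (n + 1) c) = N (μ c)) ∧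
        ∀ c, q (μ c) = c := by
  obtain ⟨ℓ, hℓ⟩ : ∃ ℓ : Module.Dual k V, ℓ ((N ^ n) v) ≠ 0 := by
    by_contra h
    push Not at h
    exact hv ((Module.forall_dual_apply_eq_zero_iff k _).1 h)
  have hge : ∀ (j : ℕ) (w : V), n + 1 ≤ j → (N ^ j) w = 0 := fun j w hj => by
    rw [show j = (n + 1) + (j - (n + 1)) by omega, pow_add, hN, zero_mul, LinearMap.zero_apply]
  let q : V →ₗ[k] (Fin (n + 1) → k) := LinearMap.pi fun i => ℓ ∘ₗ (N ^ i.1)
  let μ : (Fin (n + 1) → k) →ₗ[k] V :=
    ∑ i : Fin (n + 1), (LinearMap.toSpanSingleton k V ((N ^ (n - i.1)) v)) ∘ₗ LinearMap.proj i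
  have hq : ∀ w, q (N w) = shift k (n + 1) (q w) := fun w => funext fun i => by
    show ℓ ((N ^ i.1) (N w)) = if h : i.1 + 1 < n + 1 then ℓ ((N ^ (i.1 + 1)) w) else 0
    rw [← Module.End.mul_apply, ← pow_succ]
    split_ifs with h
    · rfl
    · rw [hge _ _ (by omega), map_zero]
  have hμ1 : ∀ c, μ c = ∑ i : Fin (n + 1), c i • (N ^ (n - i.1)) v := fun c => by simp [μ]
  have hμ : ∀ c, μ (shift k (n + 1) c) = N (μ c) := fun c => by
    rw [hμ1, hμ1, map_sum, Fin.sum_univ_castSucc, Fin.sum_univ_succ]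
    simp only [map_smul, ← Module.End.mul_apply, ← pow_succ']
    rw [show (shift k (n + 1) c) (Fin.last n) = 0 by simp [shift],
      show n - ((0 : Fin (n + 1)) : ℕ) + 1 = n + 1 by simp, hge _ _ le_rfl, smul_zero, zero_smul,
      add_zero, zero_add]
    refine Finset.sum_congr rfl fun i _ => ?_
    have h : (i.castSucc : ℕ) + 1 < n + 1 := by simp
    rw [show (shift k (n + 1) c) i.castSucc = c i.succ from dif_pos h,
      show n - ((i.castSucc : Fin (n + 1)) : ℕ) = n - (i.succ : ℕ) + 1 by
        simp only [Fin.val_castSucc, Fin.val_succ]; omega]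
  -- the composite is triangular
  have hinj : LinearMap.ker (q ∘ₗ μ) = ⊥ := by
    refine LinearMap.ker_eq_bot'.2 fun c hc => ?_
    by_contra hne
    obtain ⟨i, hi⟩ := Function.ne_iff.1 hne
    classical
    set S := Finset.univ.filter fun i : Fin (n + 1) => c i ≠ 0
    have hS : S.Nonempty := ⟨i, by simp only [S, Finset.mem_filter, Finset.mem_univ, true_and]; exact hi⟩
    set i₀ := S.max' hS with hi₀
    have h0 : ℓ ((N ^ i₀.1) (μ c)) = 0 := congrFun hc i₀
    rw [hμ1, map_sum, map_sum, Finset.sum_eq_single i₀] at h0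
    · rw [map_smul, map_smul, ← Module.End.mul_apply, ← pow_add,
        show i₀.1 + (n - i₀.1) = n by omega, smul_eq_mul, mul_eq_zero] at h0
      exact h0.elim (Finset.mem_filter.1 (S.max'_mem hS)).2 hℓ
    · intro j _ hj
      by_cases hcj : c j = 0
      · simp [hcj]
      have hjle : j ≤ i₀ := S.le_max' j (by simp [S, hcj])
      have hlt : j.1 < i₀.1 := lt_of_le_of_ne hjle (fun e => hj (Fin.ext e))
      rw [map_smul, map_smul, ← Module.End.mul_apply, ← pow_add, hge _ _ (by omega), map_zero,
        smul_zero]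
    · simp
  let e := LinearEquiv.ofInjectiveEndo (q ∘ₗ μ) (LinearMap.ker_eq_bot.1 hinj)
  refine ⟨q, μ ∘ₗ e.symm.toLinearMap, hq, fun c => ?_, fun c => e.apply_symm_apply c⟩
  show μ (e.symm (shift k (n + 1) c)) = N (μ (e.symm c))
  rw [← hμ]
  congr 1
  refine e.injective ?_
  rw [e.apply_symm_apply]
  show _ = q (μ (shift k (n + 1) (e.symm c)))
  rw [hμ, hq]
  congr 1
  exact (e.apply_symm_apply c).symm

/-- The universal operator. -/
theorem exists_summand (L : ℕ) : ∀ (r : ℕ) (V : Type*) [AddCommGroup V] [Module k V]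
    [FiniteDimensional k V] (N : Module.End k V), N ^ L = 0 → Module.finrank k V ≤ r →
      ∃ (j : V →ₗ[k] (Fin r → Slot k L)) (q : (Fin r → Slot k L) →ₗ[k] V),
        (∀ w, j (N w) = bigShift k L r (j w)) ∧ (∀ y, q (bigShift k L r y) = N (q y)) ∧
          ∀ w, q (j w) = w := by
  intro r
  induction r with
  | zero =>
    intro V _ _ _ N _ hr
    have : Subsingleton V := Module.finrank_zero_iff.1 (Nat.le_zero.1 hr)
    exact ⟨0, 0, fun w => Subsingleton.elim _ _, fun y => Subsingleton.elim _ _,
      fun w => Subsingleton.elim _ _⟩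
  | succ r ih =>
    intro V _ _ _ N hN hr
    classical
    rcases subsingleton_or_nontrivial V with h | h
    · exact ⟨0, 0, fun w => by simp, fun y => by simp, fun w => Subsingleton.elim _ _⟩
    have hex : ∃ n, N ^ (n + 1) = 0 := ⟨L, by rw [pow_succ, hN, zero_mul]⟩
    set n := Nat.find hex with hn
    have hn1 : N ^ (n + 1) = 0 := Nat.find_spec hex
    have hn0 : N ^ n ≠ 0 := by
      intro h0
      rcases Nat.eq_zero_or_pos n with e | e
      · rw [e, pow_zero] at h0
        exact one_ne_zero h0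
      · exact Nat.find_min hex (show n - 1 < n by omega) (by rwa [Nat.sub_add_cancel e])
    have hnL : n + 1 ≤ L := by
      by_contra h'
      exact hn0 (by rw [show n = L + (n - L) by omega, pow_add, hN, zero_mul])
    obtain ⟨v, hv⟩ : ∃ v, (N ^ n) v ≠ 0 := by
      by_contra h'
      push Not at h'
      exact hn0 (LinearMap.ext h')
    obtain ⟨q, μ, hq, hμ, hqμ⟩ := exists_split N hn1 hv
    set W := LinearMap.ker q with hW
    have hWN : ∀ w ∈ W, N w ∈ W := fun w hw => by
      rw [LinearMap.mem_ker] at hw ⊢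
      rw [hq, hw, map_zero]
    have hWr : Module.finrank k W ≤ r := by
      have h1 := LinearMap.finrank_range_add_finrank_ker q
      have h2 : LinearMap.range q = ⊤ := LinearMap.range_eq_top.2 fun c => ⟨μ c, hqμ c⟩
      rw [h2, finrank_top, Module.finrank_fintype_fun_eq_card, Fintype.card_fin] at h1
      show Module.finrank k (LinearMap.ker q) ≤ r
      omega
    have hNW : (N.restrict hWN) ^ L = 0 := by
      rw [Module.End.pow_restrict]
      exact LinearMap.ext fun w => Subtype.ext (by simp [hN])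
    obtain ⟨j', q', hj', hq', hjq'⟩ := ih W (N.restrict hWN) hNW hWr
    let proj : V →ₗ[k] W := (LinearMap.id - μ ∘ₗ q).codRestrict W fun w => by
      simp [hW, hqμ]
    have hproj : ∀ w, proj (N w) = N.restrict hWN (proj w) := fun w => Subtype.ext (by
      simp [proj, hq, hμ])
    let e0 : Fin (L + 1) := ⟨n + 1, by omega⟩
    let j : V →ₗ[k] (Fin (r + 1) → Slot k L) :=
      LinearMap.pi (Fin.cons (LinearMap.single k (fun e : Fin (L + 1) => Fin e.1 → k) e0 ∘ₗ q)
        (fun i => LinearMap.proj i ∘ₗ j' ∘ₗ proj))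
    let qq : (Fin (r + 1) → Slot k L) →ₗ[k] V :=
      μ ∘ₗ LinearMap.proj e0 ∘ₗ LinearMap.proj 0 +
        W.subtype ∘ₗ q' ∘ₗ LinearMap.pi fun i => LinearMap.proj i.succ
    refine ⟨j, qq, fun w => funext fun i => ?_, fun y => ?_, fun w => ?_⟩
    · refine Fin.cases ?_ (fun i => ?_) i
      · funext e
        show Pi.single (M := fun e : Fin (L + 1) => Fin e.1 → k) e0 (q (N w)) e =
          shift k e.1 (Pi.single (M := fun e : Fin (L + 1) => Fin e.1 → k) e0 (q w) e)
        rcases eq_or_ne e e0 with rfl | he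
        · rw [Pi.single_eq_same, Pi.single_eq_same, hq]
        · rw [Pi.single_eq_of_ne he, Pi.single_eq_of_ne he, map_zero]
      · show j' (proj (N w)) i = slotShift k L (j' (proj w) i)
        rw [hproj, hj']
        rfl
    · show μ (shift k (n + 1) (y 0 e0)) + (q' (fun i => slotShift k L (y i.succ)) : W) =
        N (μ (y 0 e0) + (q' (fun i => y i.succ) : W))
      rw [hμ, map_add]
      congr 1
      exact congrArg Subtype.val (hq' fun i => y i.succ)
    · show μ (Pi.single (M := fun e : Fin (L + 1) => Fin e.1 → k) e0 (q w) e0) + (q' (fun i => j' (proj w) i) : W) = w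
      rw [Pi.single_eq_same, hjq']
      simp [proj]

end CfsgLib.Cyclic1
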